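import Mathlib
import Cfsg.Agent.ClassSizes.PPrimeCentral
import Cfsg.Agent.PGroup.Normal
import Cfsg.Agent.LocalP.ThompsonJ

/-!
# Normal subgroups containing a noncentral Sylow subgroup, with two indices
-/

set_option autoImplicit false

namespace CfsgLib.TwoIndices

open Subgroup

variable {G : Type*} [Group G] [Finite G] {N : Subgroup G} [N.Normal] {m : ℕ}

/-- The centralizer of an element. -/
abbrev cent {G : Type*} [Group G] (x : G) : Subgroup G := Subgroup.centralizer ({x} : Set G)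

theorem isPGroup_zpowers {q e : ℕ} [hq : Fact q.Prime] {x : G} (h : orderOf x ∣ q ^ e) :
    IsPGroup q (Subgroup.zpowers x) := by
  obtain ⟨i, -, hi⟩ := (Nat.dvd_prime_pow hq.out).1 h
  exact IsPGroup.of_card (n := i) (by rw [Nat.card_zpowers, hi])

theorem card_mul_le_of_le {U A B W : Subgroup G} (hA : A ≤ U) (hB : B ≤ U) (h : A ⊓ B ≤ W) :
    Nat.card A * Nat.card B ≤ Nat.card U * Nat.card W := by
  refine (CfsgLib.LocalP.card_mul_le_card_sup_mul_card_inf A B).trans (Nat.mul_le_mul ?_ ?_)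
  · exact Subgroup.card_le_of_le (sup_le hA hB)
  · exact Subgroup.card_le_of_le h

theorem mem_centralizer_iff' {x y : G} : y ∈ Subgroup.centralizer ({x} : Set G) ↔ y * x = x * y :=
  Subgroup.mem_centralizer_singleton_iff

theorem eq_of_le_noncentral (h : ∀ x ∈ N, (cent x).index = 1 ∨ (cent x).index = m)
    {x y : G} (hx : x ∈ N) (hxc : x ∉ Subgroup.center G) (hy : y ∈ N) (hyc : y ∉ Subgroup.center G)
    (hle : cent x ≤ cent y) : cent x = cent y := by
  have key : ∀ z ∈ N, z ∉ Subgroup.center G → (cent z).index = m := by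
    intro z hz hzc
    refine (h z hz).resolve_left fun h1 => hzc ?_
    rw [Subgroup.index_eq_one, Subgroup.centralizer_eq_top_iff_subset] at h1
    exact h1 rfl
  refine Subgroup.eq_of_le_of_card_ge hle (le_of_eq ?_)
  have h1 := Subgroup.card_mul_index (cent x)
  have h2 := Subgroup.card_mul_index (cent y)
  rw [key x hx hxc] at h1
  rw [key y hy hyc] at h2
  have hm : m ≠ 0 := key x hx hxc ▸ Subgroup.index_ne_zero_of_finite
  exact Nat.eq_of_mul_eq_mul_right (Nat.pos_of_ne_zero hm) (h2.trans h1.symm)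

/-- Commuting noncentral elements of coprime orders have the same centralizer. -/
theorem centralizer_eq_of_coprime (h : ∀ x ∈ N, (cent x).index = 1 ∨ (cent x).index = m)
    {u y : G} (hu : u ∈ N) (huc : u ∉ Subgroup.center G) (hy : y ∈ N) (hyc : y ∉ Subgroup.center G)
    (hc : Commute u y) (hcop : (orderOf u).Coprime (orderOf y)) : cent u = cent y := by
  have hw : ∀ a b : G, Commute a b → (orderOf a).Coprime (orderOf b) → a ∈ Subgroup.zpowers (a * b) := by
    intro a b hab hco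
    obtain ⟨k, hk⟩ := exists_pow_eq_self_of_coprime hco.symm
    refine Subgroup.mem_zpowers_iff.2 ⟨((orderOf b * k : ℕ) : ℤ), ?_⟩
    rw [zpow_natCast, hab.mul_pow, pow_mul b, pow_orderOf_eq_one, one_pow, mul_one, pow_mul, hk]
  have h1 := hw u y hc hcop
  have h2 : y ∈ Subgroup.zpowers (u * y) := hc.eq ▸ hw y u hc.symm hcop.symm
  have hle : ∀ a ∈ Subgroup.zpowers (u * y), cent (u * y) ≤ cent a := by
    intro a ha z hz
    obtain ⟨k, rfl⟩ := Subgroup.mem_zpowers_iff.1 ha
    exact mem_centralizer_iff'.2 (Commute.zpow_right (mem_centralizer_iff'.1 hz) k)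
  have hwc : u * y ∉ Subgroup.center G := fun hz => huc ((Subgroup.zpowers_le.2 hz) h1)
  rw [← eq_of_le_noncentral h (mul_mem hu hy) hwc hu huc (hle u h1),
    eq_of_le_noncentral h (mul_mem hu hy) hwc hy hyc (hle y h2)]

/-- A noncentral element has a noncentral primary component. -/
theorem exists_component {x : G} (hx : x ∉ Subgroup.center G) :
    ∃ q : ℕ, q.Prime ∧ ∃ k : ℕ, x ^ k ∉ Subgroup.center G ∧ ∃ e : ℕ, orderOf (x ^ k) ∣ q ^ e := by
  let d := orderOf (QuotientGroup.mk' (Subgroup.center G) x)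
  have hd : d ≠ 1 := fun h1 => hx ((QuotientGroup.eq_one_iff x).1 (orderOf_eq_one_iff.1 h1))
  obtain ⟨q, hq, hqd⟩ := Nat.exists_prime_and_dvd hd
  refine ⟨q, hq, ordCompl[q] (orderOf x), fun hz => ?_, (orderOf x).factorization q, ?_⟩
  · have h1 : d ∣ ordCompl[q] (orderOf x) := by
      rw [orderOf_dvd_iff_pow_eq_one, QuotientGroup.mk'_apply, ← QuotientGroup.mk_pow,
        QuotientGroup.eq_one_iff]
      exact hz
    exact Nat.not_dvd_ordCompl hq (orderOf_pos x).ne' (hqd.trans h1)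
  · refine orderOf_dvd_of_pow_eq_one ?_
    rw [← pow_mul, mul_comm, Nat.ordProj_mul_ordCompl_eq_self, pow_orderOf_eq_one]

/-- The elements of `q`-power order of an abelian subgroup. -/
def primary (q : ℕ) (A : Subgroup G) (hA : ∀ a ∈ A, ∀ b ∈ A, a * b = b * a) : Subgroup G where
  carrier := {a | a ∈ A ∧ ∃ e : ℕ, a ^ q ^ e = 1}
  one_mem' := ⟨one_mem A, 0, one_pow _⟩
  mul_mem' := fun {a b} ha hb => by
    obtain ⟨ha, i, hi⟩ := ha
    obtain ⟨hb, j, hj⟩ := hb
    refine ⟨mul_mem ha hb, i + j, ?_⟩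
    rw [(show Commute a b from hA a ha b hb).mul_pow]
    rw [pow_add, pow_mul, hi, one_pow, one_mul, mul_comm, pow_mul, hj, one_pow]
  inv_mem' := fun {a} ha => by
    obtain ⟨ha, i, hi⟩ := ha
    exact ⟨inv_mem ha, i, by rw [inv_pow, hi, inv_one]⟩

theorem primary_le (q : ℕ) (A : Subgroup G) (hA : ∀ a ∈ A, ∀ b ∈ A, a * b = b * a) :
    primary q A hA ≤ A := fun _ ha => ha.1

theorem isPGroup_primary (q : ℕ) (A : Subgroup G) (hA : ∀ a ∈ A, ∀ b ∈ A, a * b = b * a) :
    IsPGroup q (primary q A hA) := fun a => by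
  obtain ⟨-, e, he⟩ := a.2
  exact ⟨e, Subtype.ext (by simpa using he)⟩

/-- A `p`-group moving a noncentral element inside a `q`-group has few cosets over its
centralizer. -/
theorem semiregular_bound {p q : ℕ} (hpq : p.Coprime q) {U T : Subgroup G} (hU : IsPGroup p U)
    (hT : IsPGroup q T) {a : G} (ha : a ∉ Subgroup.center G)
    (haU : ∀ σ ∈ U, σ * a * σ⁻¹ ∈ T) :
    (Nat.card U + Nat.card ↥(U ⊓ cent a)) * Nat.card ↥(T ⊓ Subgroup.center G) ≤
      Nat.card T * Nat.card ↥(U ⊓ cent a) := by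
  classical
  let Q := (U ⊓ cent a).subgroupOf U
  have hQ : Nat.card Q = Nat.card ↥(U ⊓ cent a) :=
    Nat.card_congr (Subgroup.subgroupOfEquivOfLe inf_le_left).toEquiv
  let f : Option (U ⧸ Q) × ↥(T ⊓ Subgroup.center G) → T := fun z => match z.1 with
    | none => ⟨z.2.1, z.2.2.1⟩
    | some c => ⟨c.out.1 * a * c.out.1⁻¹ * z.2.1, mul_mem (haU _ c.out.2) z.2.2.1⟩
  have hf : Function.Injective f := by
    rintro ⟨c, z⟩ ⟨c', z'⟩ hcc
    have hv := congrArg Subtype.val hcc
    have hzc : ∀ (w : ↥(T ⊓ Subgroup.center G)) (g : G), g * w.1 = w.1 * g :=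
      fun w => Subgroup.mem_center_iff.1 w.2.2
    have contra : ∀ (σ : U) (w w' : ↥(T ⊓ Subgroup.center G)), σ.1 * a * σ.1⁻¹ * w.1 = w'.1 → False := by
      intro σ w w' e
      have h1 : σ.1 * a * σ.1⁻¹ ∈ Subgroup.center G := by
        rw [eq_mul_inv_of_mul_eq e]
        exact mul_mem w'.2.2 (inv_mem w.2.2)
      refine ha ?_
      have h2 := Subgroup.Normal.conj_mem (inferInstance : (Subgroup.center G).Normal) _ h1 σ.1⁻¹
      simpa [mul_assoc] using h2
    rcases c with _ | c <;> rcases c' with _ | c' <;> simp only [f] at hv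
    · exact Prod.ext rfl (Subtype.ext hv)
    · exact (contra _ _ _ hv.symm).elim
    · exact (contra _ _ _ hv).elim
    · let t : U := c'.out⁻¹ * c.out
      let w : ↥(T ⊓ Subgroup.center G) := z' * z⁻¹
      have ht : t.1 * a * t.1⁻¹ = a * w.1 := by
        have e : c.out.1 * a * c.out.1⁻¹ = c'.out.1 * a * c'.out.1⁻¹ * w.1 := by
          rw [eq_mul_inv_of_mul_eq hv]
          simp [w, mul_assoc]
        simp only [t, Subgroup.coe_mul, InvMemClass.coe_inv]
        calc c'.out.1⁻¹ * c.out.1 * a * (c'.out.1⁻¹ * c.out.1)⁻¹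
            = c'.out.1⁻¹ * (c.out.1 * a * c.out.1⁻¹) * c'.out.1 := by group
          _ = a * (c'.out.1⁻¹ * w.1 * c'.out.1) := by rw [e]; group
          _ = a * w.1 := by rw [hzc w, inv_mul_cancel_right]
      have hpow : ∀ n : ℕ, t.1 ^ n * a * (t.1 ^ n)⁻¹ = a * w.1 ^ n := by
        intro n
        induction n with
        | zero => simp
        | succ n ih =>
          calc t.1 ^ (n + 1) * a * (t.1 ^ (n + 1))⁻¹
              = t.1 ^ n * (t.1 * a * t.1⁻¹) * (t.1 ^ n)⁻¹ := by group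
            _ = (t.1 ^ n * a * (t.1 ^ n)⁻¹) * (t.1 ^ n * w.1 * (t.1 ^ n)⁻¹) := by rw [ht]; group
            _ = a * w.1 ^ n * w.1 := by rw [ih, hzc w, mul_inv_cancel_right]
            _ = a * w.1 ^ (n + 1) := by rw [pow_succ, mul_assoc]
      obtain ⟨i, hi⟩ := hU t
      obtain ⟨j, hj⟩ := (hT.to_le (inf_le_left : T ⊓ Subgroup.center G ≤ T)) w
      have h1 : w.1 ^ p ^ i = 1 := by
        have e := hpow (p ^ i)
        rw [show t.1 ^ p ^ i = 1 by simpa using congrArg Subtype.val hi, one_mul, inv_one, mul_one] at e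
        exact mul_left_cancel (e.symm.trans (mul_one a).symm)
      have h2 : w.1 ^ q ^ j = 1 := by simpa using congrArg Subtype.val hj
      have h3 := pow_gcd_eq_one.2 ⟨h1, h2⟩
      rw [(Nat.Coprime.pow i j hpq).gcd_eq_one, pow_one] at h3
      have hzz : z' = z := by
        have : w = 1 := Subtype.ext h3
        simpa [w, mul_inv_eq_one] using this
      rw [h3, mul_one] at ht
      have hmem : t ∈ Q := by
        refine Subgroup.mem_subgroupOf.2 ⟨t.2, mem_centralizer_iff'.2 ?_⟩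
        exact mul_inv_eq_iff_eq_mul.1 ht
      have hcc' : c' = c := by
        rw [← QuotientGroup.out_eq' c', ← QuotientGroup.out_eq' c]
        exact QuotientGroup.eq.2 hmem
      rw [hzz, hcc']
  have hle := Nat.card_le_card_of_injective f hf
  rw [Nat.card_prod, Finite.card_option] at hle
  have hU' := Subgroup.card_mul_index Q
  rw [hQ] at hU'
  change (Q.index + 1) * _ ≤ _ at hle
  calc (Nat.card U + Nat.card ↥(U ⊓ cent a)) * Nat.card ↥(T ⊓ Subgroup.center G)
      = ((Q.index + 1) * Nat.card ↥(T ⊓ Subgroup.center G)) * Nat.card ↥(U ⊓ cent a) := by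
        rw [← hU']; ring
    _ ≤ Nat.card T * Nat.card ↥(U ⊓ cent a) := Nat.mul_le_mul_right _ hle

/-- The intersection of a Sylow subgroup with a normal subgroup is a Sylow subgroup. -/
theorem exists_sylow_subgroupOf {p : ℕ} [hp : Fact p.Prime] (S : Sylow p G) :
    ∃ S₀ : Sylow p N, (S₀ : Subgroup N) = (S : Subgroup G).subgroupOf N := by
  obtain ⟨P⟩ := (Sylow.nonempty : Nonempty (Sylow p N))
  obtain ⟨S', hS'⟩ := (P.2.map N.subtype).exists_le_sylow
  have e : (P : Subgroup N) = (S' : Subgroup G).subgroupOf N := by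
    refine (P.3 S'.2.comap_subtype ?_).symm
    intro x hx
    exact hS' ⟨x, hx, rfl⟩
  obtain ⟨g, hg⟩ := MulAction.exists_smul_eq G S' S
  let φ := MulAut.conjNormal (H := N) g
  have hp2 : IsPGroup p ((P : Subgroup N).map φ.toMonoidHom) := P.2.map _
  have hidx : ¬ p ∣ ((P : Subgroup N).map φ.toMonoidHom).index := by
    rw [show ((P : Subgroup N).map φ.toMonoidHom).index = (P : Subgroup N).index from
      Subgroup.index_map_equiv _ φ]
    exact P.not_dvd_index
  refine ⟨hp2.toSylow hidx, ?_⟩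
  show (P : Subgroup N).map φ.toMonoidHom = _
  rw [e, ← hg]
  ext x
  rw [Subgroup.mem_map_equiv, Subgroup.mem_subgroupOf, Subgroup.mem_subgroupOf, Sylow.coe_subgroup_smul,
    Subgroup.mem_pointwise_smul_iff_inv_smul_mem]
  simp [φ, MulAut.conjNormal_symm_apply]

theorem card_inf_eq {p : ℕ} [hp : Fact p.Prime] (S S' : Sylow p G) :
    Nat.card ↥((S : Subgroup G) ⊓ N) = Nat.card ↥((S' : Subgroup G) ⊓ N) := by
  have key : ∀ T : Sylow p G, Nat.card ↥((T : Subgroup G) ⊓ N) = p ^ (Nat.card N).factorization p := by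
    intro T
    obtain ⟨T₀, hT₀⟩ := exists_sylow_subgroupOf (N := N) T
    rw [← T₀.card_eq_multiplicity, hT₀, ← Subgroup.inf_subgroupOf_right]
    exact (Nat.card_congr (Subgroup.subgroupOfEquivOfLe inf_le_right).toEquiv).symm
  rw [key, key]

theorem card_mul_card_inf_le {p : ℕ} [Fact p.Prime] (S : Sylow p G) {P : Subgroup G} (hP : IsPGroup p P) :
    Nat.card P * Nat.card ↥((S : Subgroup G) ⊓ N) ≤ Nat.card S * Nat.card ↥(P ⊓ N) := by
  obtain ⟨S', hS'⟩ := hP.exists_le_sylow
  have hc : Nat.card S = Nat.card S' := by rw [Sylow.card_eq_multiplicity, Sylow.card_eq_multiplicity]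
  rw [card_inf_eq S S', hc]
  exact card_mul_le_of_le hS' inf_le_left (le_inf inf_le_left (inf_le_right.trans inf_le_right))

/-- Two Sylow subgroups of `G` can be moved onto one another inside `N`. -/
theorem exists_conj_inf {p : ℕ} [Fact p.Prime] (S S' : Sylow p G) :
    ∃ n ∈ N, ∀ x ∈ (S : Subgroup G) ⊓ N, n * x * n⁻¹ ∈ (S' : Subgroup G) ⊓ N := by
  obtain ⟨A, hA⟩ := exists_sylow_subgroupOf (N := N) S
  obtain ⟨B, hB⟩ := exists_sylow_subgroupOf (N := N) S'
  obtain ⟨n, hn⟩ := MulAction.exists_smul_eq N A B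
  refine ⟨n, n.2, fun x hx => ?_⟩
  have h1 : MulAut.conj n • (⟨x, hx.2⟩ : N) ∈ (B : Subgroup N) := by
    rw [← hn, Sylow.coe_subgroup_smul]
    refine Subgroup.smul_mem_pointwise_smul _ _ _ ?_
    rw [hA]; exact hx.1
  rw [hB] at h1
  exact ⟨h1, N.mul_mem (N.mul_mem n.2 hx.2) (inv_mem n.2)⟩

/-- The numerical contradiction. -/
theorem ineq_absurd {S Q cr cs zr zs a R₁ : ℕ} (h1 : (S + Q) * zr ≤ cr * Q) (hQ : Q ≤ cs)
    (h2 : (R₁ + cr) * zs ≤ a * cr) (h3 : cr * cr ≤ R₁ * zr) (h4 : a * cs ≤ S * zs)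
    (p1 : 0 < zr) (p2 : 0 < zs) (p3 : 0 < cs) (p4 : 0 < cr) : False := by
  have e1 : S * zr < cr * cs := by
    rcases Nat.eq_zero_or_pos Q with rfl | hQ'
    · simp only [add_zero, mul_zero, Nat.le_zero, mul_eq_zero] at h1
      rcases h1 with h | h
      · subst h; simp only [zero_mul]; positivity
      · omega
    · have : cr * Q ≤ cr * cs := Nat.mul_le_mul_left cr hQ
      have : 0 < Q * zr := Nat.mul_pos hQ' p1
      nlinarith
  have e2 : R₁ * zs < a * cr := by nlinarith
  have i1 : cr * zs < a * zr := by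
    have : cr * (cr * zs) < cr * (a * zr) := by
      calc cr * (cr * zs) = (cr * cr) * zs := by ring
        _ ≤ R₁ * zr * zs := Nat.mul_le_mul_right _ h3
        _ = R₁ * zs * zr := by ring
        _ < a * cr * zr := Nat.mul_lt_mul_of_pos_right e2 p1
        _ = cr * (a * zr) := by ring
    exact Nat.lt_of_mul_lt_mul_left this
  have i2 : a * zr < cr * zs := by
    have : cs * (a * zr) < cs * (cr * zs) := by
      calc cs * (a * zr) = a * cs * zr := by ring
        _ ≤ S * zs * zr := Nat.mul_le_mul_right _ h4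
        _ = S * zr * zs := by ring
        _ < cr * cs * zs := Nat.mul_lt_mul_of_pos_right e1 p2
        _ = cs * (cr * zs) := by ring
    exact Nat.lt_of_mul_lt_mul_left this
  omega

/-- **Main theorem.** -/
theorem isNilpotent_of_two_indices {r : ℕ} [hr : Fact r.Prime] (R : Sylow r G)
    (hR : ¬ (R : Subgroup G) ≤ Subgroup.center G) (hRN : (R : Subgroup G) ≤ N)
    (h : ∀ x ∈ N, (cent x).index = 1 ∨ (cent x).index = m) : Group.IsNilpotent N := by
  classical
  have hN : ∀ R' : Sylow r G, (R' : Subgroup G) ≤ N := by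
    intro R'
    obtain ⟨g, hg⟩ := MulAction.exists_smul_eq G R R'
    rw [← hg, Sylow.coe_subgroup_smul]
    intro x hx
    rw [Subgroup.mem_pointwise_smul_iff_inv_smul_mem] at hx
    have := Subgroup.Normal.conj_mem (inferInstance : N.Normal) _ (hRN hx) g
    simpa [MulAut.smul_def, mul_assoc] using this
  have hrN : ∀ U : Subgroup G, IsPGroup r U → U ≤ N := fun U hU => by
    obtain ⟨R', hR'⟩ := hU.exists_le_sylow
    exact hR'.trans (hN R')
  have hidx : ∀ z ∈ N, z ∉ Subgroup.center G → (cent z).index = m := by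
    intro z hz hzc
    refine (h z hz).resolve_left fun h1 => hzc ?_
    rw [Subgroup.index_eq_one, Subgroup.centralizer_eq_top_iff_subset] at h1
    exact h1 rfl
  obtain ⟨u₀, hu₀, hu₀c⟩ := SetLike.not_le_iff_exists.1 hR
  have hu₀N := hRN hu₀
  have hord : ∀ (p : ℕ) (U : Subgroup G), IsPGroup p U → ∀ x ∈ U, ∃ e : ℕ, orderOf x ∣ p ^ e :=
    fun p U hU x hx => by
      obtain ⟨e, he⟩ := hU ⟨x, hx⟩
      exact ⟨e, orderOf_dvd_of_pow_eq_one (by simpa using congrArg Subtype.val he)⟩
  have hcop : ∀ {p q : ℕ}, p.Prime → q.Prime → p ≠ q → ∀ {x y : G},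
      (∃ e, orderOf x ∣ p ^ e) → (∃ e, orderOf y ∣ q ^ e) → (orderOf x).Coprime (orderOf y) := by
    intro p q hp hq hpq x y ⟨i, hi⟩ ⟨j, hj⟩
    exact Nat.Coprime.of_dvd hi hj (Nat.Coprime.pow i j ((Nat.coprime_primes hp hq).2 hpq))
  -- it suffices that there are no noncentral `r'`-elements
  by_cases hex : ∃ s : ℕ, s.Prime ∧ s ≠ r ∧ ∃ y ∈ N, y ∉ Subgroup.center G ∧ ∃ e, orderOf y ∣ s ^ e
  swap
  · push Not at hex
    let f := (QuotientGroup.mk' (Subgroup.center G)).comp N.subtype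
    have hp : IsPGroup r f.range := by
      rintro ⟨-, x, rfl⟩
      let o := orderOf (x : G)
      refine ⟨o.factorization r, Subtype.ext ?_⟩
      show (QuotientGroup.mk' (Subgroup.center G) (x : G)) ^ r ^ o.factorization r = 1
      rw [QuotientGroup.mk'_apply, ← QuotientGroup.mk_pow, QuotientGroup.eq_one_iff]
      by_contra hc
      obtain ⟨q, hq, k, hk, e, he⟩ := exists_component hc
      by_cases hqr : q = r
      · subst hqr
        refine hk ?_
        have hd : orderOf (((x : G) ^ q ^ o.factorization q) ^ k) ∣ ordCompl[q] o := by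
          refine (orderOf_pow_dvd k).trans (orderOf_dvd_of_pow_eq_one ?_)
          rw [← pow_mul, Nat.ordProj_mul_ordCompl_eq_self]
          exact pow_orderOf_eq_one _
        have h1 : orderOf (((x : G) ^ q ^ o.factorization q) ^ k) = 1 :=
          Nat.eq_one_of_dvd_coprimes ((Nat.coprime_ordCompl hq (orderOf_pos _).ne').pow_left e) he hd
        rw [orderOf_eq_one_iff] at h1
        rw [h1]
        exact one_mem _
      · exact hex q hq hqr _ (pow_mem (pow_mem x.2 _) _) hk e he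
    haveI := hp.isNilpotent
    refine Subgroup.isNilpotent_of_ker_le_center f.rangeRestrict ?_
    intro x hx
    rw [MonoidHom.ker_rangeRestrict, MonoidHom.mem_ker] at hx
    have hx' : (x : G) ∈ Subgroup.center G := (QuotientGroup.eq_one_iff _).1 hx
    exact Subgroup.mem_center_iff.2 fun w => Subtype.ext (Subgroup.mem_center_iff.1 hx' w)
  obtain ⟨s, hs, hsr, y₁, hy₁N, hy₁c, hy₁o⟩ := hex
  haveI := Fact.mk hs
  by_cases hrm : r ∣ m
  swap
  · -- then `R` is central in `N`, and `N` is abelian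
    have hRZ : ∀ x ∈ N, ∀ z ∈ (R : Subgroup G), z * x = x * z := by
      have htop : Subgroup.centralizer ((((R : Subgroup G).subgroupOf N : Subgroup N) : Set N)) = ⊤ := by
        refine CfsgLib.ClassSizes.eq_top_of_conj_cover _ fun x => ?_
        obtain ⟨R', hR'⟩ : ∃ R' : Sylow r G, (R' : Subgroup G) ≤ cent (x : G) := by
          by_cases hxc : (x : G) ∈ Subgroup.center G
          · exact ⟨R, fun z _ => mem_centralizer_iff'.2 (Subgroup.mem_center_iff.1 hxc z)⟩
          · obtain ⟨P⟩ := (Sylow.nonempty : Nonempty (Sylow r ↥(cent (x : G))))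
            have hni : ¬ r ∣ ((P : Subgroup ↥(cent (x : G))).map (cent (x : G)).subtype).index := by
              rw [Subgroup.index_map_subtype]
              exact fun hd => (hr.out.dvd_mul.1 hd).elim P.not_dvd_index
                (fun e => hrm (hidx x x.2 hxc ▸ e))
            refine ⟨(P.2.map _).toSylow hni, ?_⟩
            rintro z ⟨w, -, rfl⟩
            exact w.2
        obtain ⟨n, hnN, hn⟩ := exists_conj_inf (N := N) R R'
        refine ⟨⟨n, hnN⟩, Subgroup.mem_centralizer_iff.2 fun z hz => Subtype.ext ?_⟩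
        have hz' : n * (z : G) * n⁻¹ ∈ (R' : Subgroup G) := (hn z ⟨Subgroup.mem_subgroupOf.1 hz, z.2⟩).1
        have h2 := mem_centralizer_iff'.1 (hR' hz')
        show (z : G) * (n⁻¹ * x * n) = n⁻¹ * x * n * z
        calc (z : G) * (n⁻¹ * x * n) = n⁻¹ * (n * z * n⁻¹ * x) * n := by group
          _ = n⁻¹ * (x * (n * z * n⁻¹)) * n := by rw [h2]
          _ = n⁻¹ * x * n * z := by group
      intro x hx z hz
      have := Subgroup.mem_centralizer_iff.1 (htop.symm ▸ Subgroup.mem_top (⟨x, hx⟩ : N)) ⟨z, hRN hz⟩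
        (Subgroup.mem_subgroupOf.2 hz)
      exact congrArg Subtype.val this
    have hRall : ∀ x ∈ N, ∀ q : ℕ, q.Prime → (∃ e, orderOf x ∣ q ^ e) → ∀ z ∈ N, z * x = x * z := by
      intro x hxN q hq hxo z hzN
      by_cases hxc : x ∈ Subgroup.center G
      · exact Subgroup.mem_center_iff.1 hxc z
      by_cases hqr : q = r
      · subst hqr
        obtain ⟨e, he⟩ := hxo
        obtain ⟨R', hR'⟩ := (isPGroup_zpowers he).exists_le_sylow
        obtain ⟨n, hnN, hn⟩ := exists_conj_inf (N := N) R' R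
        have h1 := hRZ (n * z * n⁻¹) (mul_mem (mul_mem hnN hzN) (inv_mem hnN)) _
          (hn x ⟨hR' (Subgroup.mem_zpowers x), hxN⟩).1
        calc z * x = n⁻¹ * (n * z * n⁻¹ * (n * x * n⁻¹)) * n := by group
          _ = n⁻¹ * (n * x * n⁻¹ * (n * z * n⁻¹)) * n := by rw [h1]
          _ = x * z := by group
      · have hc := centralizer_eq_of_coprime h hu₀N hu₀c hxN hxc (hRZ x hxN u₀ hu₀)
          (hcop hr.out hq (Ne.symm hqr) (hord r R R.2 u₀ hu₀) hxo)
        have hz' : z ∈ cent u₀ := mem_centralizer_iff'.2 (hRZ z hzN u₀ hu₀).symm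
        rw [hc] at hz'
        exact mem_centralizer_iff'.1 hz'
    haveI : IsMulCommutative N := by
      refine ⟨⟨fun a b => ?_⟩⟩
      by_contra hne
      have hbc : b ∉ Subgroup.center N := fun hb => hne (Subgroup.mem_center_iff.1 hb a)
      let d := orderOf (QuotientGroup.mk' (Subgroup.center N) b)
      have hd : d ≠ 1 := fun h1 => hbc ((QuotientGroup.eq_one_iff b).1 (orderOf_eq_one_iff.1 h1))
      obtain ⟨q, hq, k, hk, e, he⟩ := exists_component (G := N) hbc
      refine hk (Subgroup.mem_center_iff.2 fun z => Subtype.ext ?_)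
      exact hRall _ (b ^ k).2 q hq ⟨e, by rwa [Subgroup.orderOf_coe]⟩ z z.2
    refine Subgroup.isNilpotent_of_ker_le_center (1 : N →* Unit) ?_
    intro a _
    exact Subgroup.mem_center_iff.2 fun b => mul_comm' b a
  exfalso
  -- Sylow centres are central
  have hcard : ∀ z ∈ N, z ∉ Subgroup.center G → Nat.card ↥(cent z) * m = Nat.card G := fun z hz hzc => by
    rw [← hidx z hz hzc]; exact Subgroup.card_mul_index _
  have hm0 : 0 < m := Nat.pos_of_ne_zero (hidx u₀ hu₀N hu₀c ▸ Subgroup.index_ne_zero_of_finite)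
  have hpart : ∀ (p : ℕ) [Fact p.Prime], ∀ z ∈ N, z ∉ Subgroup.center G → ∃ P : Subgroup G,
      IsPGroup p P ∧ P ≤ cent z ∧ Nat.card P = p ^ (Nat.card G / m).factorization p := by
    intro p _ z hz hzc
    obtain ⟨P⟩ := (Sylow.nonempty : Nonempty (Sylow p ↥(cent z)))
    refine ⟨(P : Subgroup ↥(cent z)).map (cent z).subtype, P.2.map _, ?_, ?_⟩
    · rintro w ⟨v, -, rfl⟩; exact v.2
    · rw [Subgroup.card_map_of_injective (Subgroup.subtype_injective _), P.card_eq_multiplicity,
        ← hcard z hz hzc, Nat.mul_div_cancel _ hm0]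
  have hpbound : ∀ (p : ℕ) [Fact p.Prime], ∀ z ∈ N, z ∉ Subgroup.center G → ∀ P : Subgroup G,
      IsPGroup p P → P ≤ cent z → Nat.card P ≤ p ^ (Nat.card G / m).factorization p := by
    intro p _ z hz hzc P hP hle
    obtain ⟨P', hP'⟩ := (hP.comap_subtype (K := cent z)).exists_le_sylow
    have h1 : Nat.card (P.subgroupOf (cent z)) = Nat.card P :=
      Nat.card_congr (Subgroup.subgroupOfEquivOfLe hle).toEquiv
    have h2 := Subgroup.card_le_of_le hP'
    rw [P'.card_eq_multiplicity] at h2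
    rw [← h1, ← hcard z hz hzc, Nat.mul_div_cancel _ hm0]
    exact h2
  -- a central `r`-element of every Sylow subgroup is central in `G`
  have hrZ : ∀ z ∈ (R : Subgroup G), (R : Subgroup G) ≤ cent z → z ∈ Subgroup.center G := by
    intro z hz hle
    by_contra hzc
    exact R.not_dvd_index ((hrm.trans (dvd_of_eq (hidx z (hRN hz) hzc).symm)).trans
      (Subgroup.index_dvd_of_le hle))
  -- every noncentral element of `N` commutes with a noncentral `r`-element
  have hru : ∀ z ∈ N, z ∉ Subgroup.center G →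
      ∃ v ∈ N, v ∉ Subgroup.center G ∧ (∃ e, orderOf v ∣ r ^ e) ∧ v ∈ cent z := by
    intro z hz hzc
    obtain ⟨P, hP, hPle, hPc⟩ := hpart r z hz hzc
    by_contra hno
    push Not at hno
    let Zr := (R : Subgroup G) ⊓ Subgroup.center G
    have hPZ : P ≤ Zr := by
      intro v hv
      have hvc : v ∈ Subgroup.center G := by
        by_contra hvc
        exact hno v (hrN P hP hv) hvc (hord r P hP v hv) (hPle hv)
      obtain ⟨R', hR'⟩ := hP.exists_le_sylow
      obtain ⟨g, hg⟩ := MulAction.exists_smul_eq G R' R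
      refine ⟨?_, hvc⟩
      show v ∈ ((R : Sylow r G) : Subgroup G)
      rw [← hg, Sylow.coe_subgroup_smul, Subgroup.mem_pointwise_smul_iff_inv_smul_mem]
      simp only [MulAut.smul_def, MulAut.conj_inv_apply]
      rw [Subgroup.mem_center_iff.1 hvc g⁻¹, inv_mul_cancel_right]
      exact hR' hv
    have hlt : Zr < Zr ⊔ Subgroup.zpowers u₀ :=
      lt_of_le_of_ne le_sup_left fun e => hu₀c ((e.symm ▸ Subgroup.mem_sup_right (Subgroup.mem_zpowers u₀) : u₀ ∈ Zr)).2
    have h1 : Nat.card ↥(Zr ⊔ Subgroup.zpowers u₀) ≤ r ^ (Nat.card G / m).factorization r := by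
      refine hpbound r u₀ hu₀N hu₀c _ (R.2.to_le (sup_le inf_le_left (Subgroup.zpowers_le.2 hu₀))) ?_
      refine sup_le (fun v hv => mem_centralizer_iff'.2 (Subgroup.mem_center_iff.1 hv.2 u₀).symm) ?_
      exact Subgroup.zpowers_le.2 (mem_centralizer_iff'.2 rfl)
    rw [← hPc] at h1
    have h2 := Set.ncard_lt_ncard (SetLike.coe_ssubset_coe.2 hlt)
    rw [← Nat.card_coe_set_eq, ← Nat.card_coe_set_eq] at h2
    exact absurd (h1.trans (Subgroup.card_le_of_le hPZ)) (not_le.2 h2)
  -- a special noncentral `s`-element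
  obtain ⟨S, hS₁⟩ : ∃ S : Sylow s G, y₁ ∈ (S : Subgroup G) := by
    obtain ⟨e, he⟩ := hy₁o
    obtain ⟨S, hS⟩ := (isPGroup_zpowers (q := s) he).exists_le_sylow
    exact ⟨S, hS (Subgroup.mem_zpowers y₁)⟩
  obtain ⟨y, hyS, hyN, hyc, hyS'⟩ : ∃ y ∈ (S : Subgroup G), y ∈ N ∧ y ∉ Subgroup.center G ∧
      ∀ σ ∈ (S : Subgroup G), σ * y * σ⁻¹ * y⁻¹ ∈ Subgroup.center G := by
    let π := (QuotientGroup.mk' (Subgroup.center G)).comp (S : Subgroup G).subtype
    let K := (N.subgroupOf (S : Subgroup G)).map π.rangeRestrict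
    haveI : K.Normal := Subgroup.Normal.map inferInstance _ π.rangeRestrict_surjective
    have hK : K ≠ ⊥ := by
      rw [Ne, Subgroup.map_eq_bot_iff, MonoidHom.ker_rangeRestrict]
      intro hle
      exact hy₁c ((QuotientGroup.eq_one_iff y₁).1 (hle (show (⟨y₁, hS₁⟩ : (S : Subgroup G)) ∈ _ from hy₁N)))
    have hpg : IsPGroup s π.range := S.2.of_surjective _ π.rangeRestrict_surjective
    have hne := CfsgLib.PGroup.inf_center_ne_bot hpg K hK
    obtain ⟨w, hw, hw1⟩ := (Subgroup.bot_or_exists_ne_one _).resolve_left hne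
    obtain ⟨⟨y, hyS⟩, hyN, rfl⟩ := hw.1
    refine ⟨y, hyS, hyN, fun hc => hw1 (Subtype.ext ((QuotientGroup.eq_one_iff y).2 hc)), fun σ hσ => ?_⟩
    have e := Subgroup.mem_center_iff.1 hw.2 (π.rangeRestrict ⟨σ, hσ⟩)
    have e' : (QuotientGroup.mk' (Subgroup.center G) σ) * QuotientGroup.mk' _ y =
        QuotientGroup.mk' _ y * QuotientGroup.mk' _ σ := congrArg Subtype.val e
    rw [← QuotientGroup.eq_one_iff, ← QuotientGroup.mk'_apply, map_mul, map_mul, map_mul, map_inv, map_inv, e']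
    group
  have hyo : ∃ e, orderOf y ∣ s ^ e := hord s S S.2 y hyS
  obtain ⟨u, huN, huc, huo, huy⟩ := hru y hyN hyc
  have hCu : cent u = cent y := centralizer_eq_of_coprime h huN huc hyN hyc
    (mem_centralizer_iff'.1 huy) (hcop hr.out hs (Ne.symm hsr) huo hyo)
  let A := N ⊓ cent y
  -- every noncentral element of `A` has centralizer `C(y)`
  have hA : ∀ a ∈ A, a ∉ Subgroup.center G → cent a = cent y := by
    intro a ha hac
    obtain ⟨q, hq, k, hk, hko⟩ := exists_component hac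
    have hCk : cent a = cent (a ^ k) := eq_of_le_noncentral h ha.1 hac (pow_mem ha.1 k) hk fun z hz =>
      mem_centralizer_iff'.2 (Commute.pow_right (mem_centralizer_iff'.1 hz) k)
    have hy' : a ^ k ∈ cent y := pow_mem ha.2 k
    rw [hCk]
    by_cases hqr : q = r
    · exact centralizer_eq_of_coprime h (pow_mem ha.1 k) hk hyN hyc (mem_centralizer_iff'.1 hy')
        (hcop hq hs (hqr ▸ Ne.symm hsr) hko hyo)
    · rw [← hCu]
      exact centralizer_eq_of_coprime h (pow_mem ha.1 k) hk huN huc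
        (mem_centralizer_iff'.1 (hCu.symm ▸ hy' : a ^ k ∈ cent u))
        (hcop hq hr.out hqr hko huo)
  have hAab : ∀ a ∈ A, ∀ b ∈ A, a * b = b * a := by
    intro a ha b hb
    by_cases hbc : b ∈ Subgroup.center G
    · exact Subgroup.mem_center_iff.1 hbc a
    · have ha2 : a ∈ cent y := ha.2
      rw [← hA b hb hbc] at ha2
      exact mem_centralizer_iff'.1 ha2
  have hAmem : ∀ a ∈ A, a ∉ Subgroup.center G → ∀ x ∈ N, x ∈ cent a → x ∈ A :=
    fun a ha hac x hx hxa => ⟨hx, hA a ha hac ▸ hxa⟩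
  let Ar := primary r A hAab
  let As := primary s A hAab
  have huA : u ∈ Ar := ⟨⟨huN, huy⟩, by obtain ⟨e, he⟩ := huo; exact ⟨e, orderOf_dvd_iff_pow_eq_one.1 he⟩⟩
  have hyA : y ∈ As :=
    ⟨⟨hyN, mem_centralizer_iff'.2 rfl⟩, by obtain ⟨e, he⟩ := hyo; exact ⟨e, orderOf_dvd_iff_pow_eq_one.1 he⟩⟩
  let cr := r ^ (Nat.card G / m).factorization r
  let cs := s ^ (Nat.card G / m).factorization s
  have hArcard : Nat.card Ar = cr := by
    refine le_antisymm (hpbound r y hyN hyc Ar (isPGroup_primary r A hAab) fun v hv => hv.1.2) ?_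
    obtain ⟨P, hP, hPle, hPc⟩ := hpart r y hyN hyc
    rw [← show Nat.card P = cr from hPc]
    refine Subgroup.card_le_of_le fun v hv => ⟨⟨hrN P hP hv, hPle hv⟩, ?_⟩
    obtain ⟨e, he⟩ := hord r P hP v hv
    exact ⟨e, orderOf_dvd_iff_pow_eq_one.1 he⟩
  -- the `S`-bound
  have hyconj : ∀ σ ∈ (S : Subgroup G), σ * u * σ⁻¹ ∈ Ar := by
    intro σ hσ
    obtain ⟨⟨-, -⟩, e, he⟩ := huA
    refine ⟨⟨Subgroup.Normal.conj_mem inferInstance u huN σ, mem_centralizer_iff'.2 ?_⟩, e, ?_⟩
    · have hz := Subgroup.mem_center_iff.1 (hyS' σ hσ)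
      have h1 := mem_centralizer_iff'.1 huy
      have h2 : σ * y * σ⁻¹ = (σ * y * σ⁻¹ * y⁻¹) * y := by group
      have h3 : σ * u * σ⁻¹ * (σ * y * σ⁻¹) = σ * y * σ⁻¹ * (σ * u * σ⁻¹) := by
        calc σ * u * σ⁻¹ * (σ * y * σ⁻¹) = σ * (u * y) * σ⁻¹ := by group
          _ = σ * (y * u) * σ⁻¹ := by rw [h1]
          _ = σ * y * σ⁻¹ * (σ * u * σ⁻¹) := by group
      rw [h2, ← mul_assoc, hz (σ * u * σ⁻¹)] at h3
      simp only [mul_assoc] at h3 ⊢
      exact mul_left_cancel (mul_left_cancel (mul_left_cancel (mul_left_cancel h3)))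
    · rw [conj_pow, he, mul_one, mul_inv_cancel]
  have hq1 := semiregular_bound ((Nat.coprime_primes hs hr.out).2 hsr) S.2
    (isPGroup_primary r A hAab) huc hyconj
  have hQ : Nat.card ↥((S : Subgroup G) ⊓ cent u) ≤ cs :=
    hpbound s u huN huc _ (S.2.to_le inf_le_left) inf_le_right
  -- a Sylow subgroup over `Ar`
  obtain ⟨R', hR'⟩ := (isPGroup_primary r A hAab).exists_le_sylow
  let R₁ := (R' : Subgroup G) ⊓ Subgroup.normalizer (Ar : Set G)
  have hR₁conj : ∀ σ ∈ R₁, σ * y * σ⁻¹ ∈ As := by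
    intro σ hσ
    obtain ⟨-, e, he⟩ := hyA
    have hσN : σ ∈ N := hN R' hσ.1
    have hu' : σ * u * σ⁻¹ ∈ Ar := (Subgroup.mem_normalizer_iff.1 hσ.2 u).1 huA
    have hu'c : σ * u * σ⁻¹ ∉ Subgroup.center G := fun hc => huc (by
      have := Subgroup.Normal.conj_mem (inferInstance : (Subgroup.center G).Normal) _ hc σ⁻¹
      simpa [mul_assoc] using this)
    refine ⟨hAmem _ hu'.1 hu'c _ (Subgroup.Normal.conj_mem inferInstance y hyN σ)
      (mem_centralizer_iff'.2 ?_), e, by rw [conj_pow, he, mul_one, mul_inv_cancel]⟩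
    calc σ * y * σ⁻¹ * (σ * u * σ⁻¹) = σ * (y * u) * σ⁻¹ := by group
      _ = σ * (u * y) * σ⁻¹ := by rw [(mem_centralizer_iff'.1 huy)]
      _ = σ * u * σ⁻¹ * (σ * y * σ⁻¹) := by group
  have hq2 := semiregular_bound ((Nat.coprime_primes hr.out hs).2 (Ne.symm hsr))
    (R'.2.to_le (inf_le_left : R₁ ≤ R')) (isPGroup_primary s A hAab) hyc hR₁conj
  have hR₁C : R₁ ⊓ cent y = Ar := by
    apply le_antisymm
    · intro v hv
      obtain ⟨e, he⟩ := hord r R' R'.2 v hv.1.1
      exact ⟨⟨hN R' hv.1.1, hv.2⟩, e, orderOf_dvd_iff_pow_eq_one.1 he⟩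
    · exact fun v hv => ⟨⟨hR' hv, Subgroup.le_normalizer hv⟩, hv.1.2⟩
  rw [hR₁C] at hq2
  -- an element of `N` none of whose conjugates lies in `A`
  obtain ⟨x, hxA⟩ : ∃ x : N, ∀ n : N, ((n⁻¹ * x * n : N) : G) ∉ A := by
    by_contra hno
    push Not at hno
    have htop := CfsgLib.ClassSizes.eq_top_of_conj_cover (A.subgroupOf N) hno
    have hNA : N ≤ A := fun v hv => Subgroup.mem_subgroupOf.1
      (htop.symm ▸ Subgroup.mem_top (⟨v, hv⟩ : N))
    refine hu₀c (hrZ u₀ hu₀ fun w hw => mem_centralizer_iff'.2 ?_)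
    exact hAab w (hNA (hRN hw)) u₀ (hNA hu₀N)
  have hxc : (x : G) ∉ Subgroup.center G := fun hc => hxA 1 ⟨by simp, by
    simpa using mem_centralizer_iff'.2 (Subgroup.mem_center_iff.1 hc y).symm⟩
  let Zr := Ar ⊓ Subgroup.center G
  let Zs := As ⊓ Subgroup.center G
  have hxmove : ∀ (n : G), n ∈ N → ∀ (P : Subgroup G), (∀ v ∈ P, v ∈ cent (x : G)) → ∀ (T : Subgroup G),
      T ≤ A → P.map (MulAut.conj n).toMonoidHom ⊓ T ≤ T ⊓ Subgroup.center G := by
    intro n hn P hP T hT v hv
    refine ⟨hv.2, ?_⟩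
    by_contra hvc
    obtain ⟨w, hw, rfl⟩ := hv.1
    refine hxA ⟨n⁻¹, inv_mem hn⟩ ?_
    have hx' : n * (x : G) * n⁻¹ ∈ A := hAmem _ (hT hv.2) hvc _ (Subgroup.Normal.conj_mem inferInstance _ x.2 n)
      (mem_centralizer_iff'.2 (by
        have h2 := mem_centralizer_iff'.1 (hP w hw)
        show n * x * n⁻¹ * (n * w * n⁻¹) = n * w * n⁻¹ * (n * x * n⁻¹)
        calc n * (x : G) * n⁻¹ * (n * w * n⁻¹) = n * (x * w) * n⁻¹ := by group
          _ = n * (w * x) * n⁻¹ := by rw [h2]
          _ = _ := by group))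
    simpa using hx'
  -- the `r`-side bound
  have hq3 : cr * cr ≤ Nat.card R₁ * Nat.card Zr := by
    by_cases hfull : (R' : Subgroup G) ≤ Subgroup.normalizer (Ar : Set G)
    · obtain ⟨P, hP, hPle, hPc⟩ := hpart r (x : G) x.2 hxc
      obtain ⟨R'', hR''⟩ := hP.exists_le_sylow
      obtain ⟨n, hn, hnconj⟩ := exists_conj_inf (N := N) R'' R'
      have hR₁ : R₁ = (R' : Subgroup G) := inf_eq_left.2 hfull
      have hle : P.map (MulAut.conj n).toMonoidHom ≤ R₁ := by
        rw [hR₁]
        rintro v ⟨w, hw, rfl⟩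
        exact (hnconj w ⟨hR'' hw, hrN P hP hw⟩).1
      have h1 := card_mul_le_of_le hle (hR₁ ▸ hR' : Ar ≤ R₁)
        (hxmove n hn P (fun v hv => hPle hv) Ar (primary_le _ _ _))
      rw [Subgroup.card_map_of_injective (MulAut.conj n).injective, hArcard] at h1
      rwa [show Nat.card P = cr from hPc] at h1
    · have hlt : R₁ < (R' : Subgroup G) := lt_of_le_of_ne inf_le_left fun e => hfull (inf_eq_left.1 e)
      have hgrow : ∃ g ∈ (R' : Subgroup G), g ∈ Subgroup.normalizer (R₁ : Set G) ∧ g ∉ R₁ := by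
        haveI := R'.2.isNilpotent
        have hlt' : R₁.subgroupOf R' < ⊤ := lt_top_iff_ne_top.2 fun e =>
          hlt.not_ge (Subgroup.subgroupOf_eq_top.1 e)
        obtain ⟨g, hg, hg'⟩ := SetLike.exists_of_lt
          ((normalizerCondition_of_isNilpotent (G := ↥(R' : Subgroup G))) _ hlt')
        refine ⟨g, g.2, ?_, fun hc => hg' (Subgroup.mem_subgroupOf.2 hc)⟩
        rw [Subgroup.mem_normalizer_iff] at hg ⊢
        intro v
        constructor
        · intro hv
          exact Subgroup.mem_subgroupOf.1 ((hg ⟨v, hlt.le hv⟩).1 (Subgroup.mem_subgroupOf.2 hv))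
        · intro hv
          have hvR : v ∈ (R' : Subgroup G) := by
            have := mul_mem (mul_mem (inv_mem g.2) (hlt.le hv)) g.2
            simpa [mul_assoc] using this
          exact Subgroup.mem_subgroupOf.1 ((hg ⟨v, hvR⟩).2 (Subgroup.mem_subgroupOf.2 hv))
      obtain ⟨g, hgR, hgn, hg1⟩ := hgrow
      let Ar' := Ar.map (MulAut.conj g).toMonoidHom
      have hAr1 : Ar ≤ R₁ := fun v hv => ⟨hR' hv, Subgroup.le_normalizer hv⟩
      have hle : Ar' ≤ R₁ := by
        rintro v ⟨w, hw, rfl⟩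
        exact (Subgroup.mem_normalizer_iff.1 hgn w).1 (hAr1 hw)
      have hint : Ar' ⊓ Ar ≤ Zr := by
        intro v hv
        refine ⟨hv.2, ?_⟩
        by_contra hvc
        obtain ⟨w, hw, hwv⟩ := hv.1
        have hwv' : g * w * g⁻¹ = v := hwv
        have hwc : w ∉ Subgroup.center G := fun hc => hvc (hwv' ▸ by
          rw [Subgroup.mem_center_iff.1 hc g, mul_inv_cancel_right]; exact hc)
        refine hg1 ⟨hgR, Subgroup.mem_normalizer_iff.2 fun a => ?_⟩
        have hconj : ∀ a : G, a ∈ A ↔ g * a * g⁻¹ ∈ A := by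
          intro a
          constructor
          · intro ha
            refine hAmem v hv.2.1 hvc _ (Subgroup.Normal.conj_mem inferInstance a ha.1 g)
              (mem_centralizer_iff'.2 ?_)
            rw [← hwv']
            have := hAab a ha w hw.1
            calc g * a * g⁻¹ * (g * w * g⁻¹) = g * (a * w) * g⁻¹ := by group
              _ = g * (w * a) * g⁻¹ := by rw [this]
              _ = _ := by group
          · intro ha
            have haN : a ∈ N := by
              have := Subgroup.Normal.conj_mem (inferInstance : N.Normal) _ ha.1 g⁻¹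
              simpa [mul_assoc] using this
            refine hAmem w hw.1 hwc a haN (mem_centralizer_iff'.2 ?_)
            have := hAab _ ha v hv.2.1
            rw [← hwv'] at this
            calc a * w = g⁻¹ * (g * a * g⁻¹ * (g * w * g⁻¹)) * g := by group
              _ = g⁻¹ * (g * w * g⁻¹ * (g * a * g⁻¹)) * g := by rw [this]
              _ = w * a := by group
        constructor
        · intro ha
          obtain ⟨ha1, e, he⟩ := ha
          exact ⟨(hconj a).1 ha1, e, by rw [conj_pow, he, mul_one, mul_inv_cancel]⟩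
        · intro ha
          obtain ⟨ha1, e, he⟩ := ha
          refine ⟨(hconj a).2 ha1, e, ?_⟩
          rw [conj_pow, mul_inv_eq_one] at he
          simpa using he
      have h1 := card_mul_le_of_le hle hAr1 hint
      rwa [Subgroup.card_map_of_injective (MulAut.conj g).injective, hArcard] at h1
  -- the `s`-side bound
  have hq4 : Nat.card As * cs ≤ Nat.card (S : Subgroup G) * Nat.card Zs := by
    obtain ⟨P, hP, hPle, hPc⟩ := hpart s (x : G) x.2 hxc
    obtain ⟨S', hS'⟩ := (isPGroup_primary s A hAab).exists_le_sylow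
    obtain ⟨S'', hS''⟩ := hP.exists_le_sylow
    obtain ⟨n, hn, hnconj⟩ := exists_conj_inf (N := N) S'' S'
    let B := (P ⊓ N).map (MulAut.conj n).toMonoidHom
    have hle : B ≤ (S' : Subgroup G) ⊓ N := by
      rintro v ⟨w, hw, rfl⟩
      exact hnconj w ⟨hS'' hw.1, hw.2⟩
    have h1 := card_mul_le_of_le hle (le_inf hS' fun v hv => hv.1.1 : As ≤ (S' : Subgroup G) ⊓ N)
      (hxmove n hn (P ⊓ N) (fun v hv => hPle hv.1) As (primary_le _ _ _))
    rw [Subgroup.card_map_of_injective (MulAut.conj n).injective, card_inf_eq S' S] at h1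
    have h2 := card_mul_card_inf_le (N := N) S hP
    rw [show Nat.card P = cs from hPc] at h2
    have h3 : 0 < Nat.card ↥(P ⊓ N) := Nat.card_pos
    refine Nat.le_of_mul_le_mul_left ?_ h3
    calc Nat.card ↥(P ⊓ N) * (Nat.card As * cs) = (Nat.card ↥(P ⊓ N) * Nat.card As) * cs := by ring
      _ ≤ Nat.card ↥((S : Subgroup G) ⊓ N) * Nat.card Zs * cs := Nat.mul_le_mul_right _ h1
      _ = cs * Nat.card ↥((S : Subgroup G) ⊓ N) * Nat.card Zs := by ring
      _ ≤ Nat.card (S : Subgroup G) * Nat.card ↥(P ⊓ N) * Nat.card Zs := Nat.mul_le_mul_right _ h2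
      _ = Nat.card ↥(P ⊓ N) * (Nat.card (S : Subgroup G) * Nat.card Zs) := by ring
  rw [hArcard] at hq1 hq2
  have p1 : 0 < Nat.card Zr := Nat.card_pos
  have p2 : 0 < Nat.card Zs := Nat.card_pos
  have p3 : 0 < cs := pow_pos hs.pos _
  have p4 : 0 < cr := pow_pos hr.out.pos _
  exact CfsgLib.TwoIndices.ineq_absurd hq1 hQ hq2 hq3 hq4 p1 p2 p3 p4

end CfsgLib.TwoIndices
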